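import Mathlib
import Cfsg.Agent.H20.NWQ.Quo

/-!
# S4979: the structure of a minimal counterexample
-/

set_option autoImplicit false
set_option linter.style.haveILetI false
set_option linter.unusedSectionVars false

open Cfsg

namespace Cfsg.Agent.H20.NWQ

open Cfsg.Agent.Characters.Core Cfsg.Agent.Characters.Clifford Cfsg.Agent.H672
open Cfsg.Agent.H672.RM (over_lin_iff)
open Cfsg.Agent.H586.GW Cfsg.Agent.H37.NW
open scoped commutatorElement

universe u

variable {p q : ℕ} [hp : Fact p.Prime] [hq : Fact q.Prime] {G : Type u} [Group G] [Finite G]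
  {Z : Subgroup G} {l : Z →* ℂˣ}

theorem CtxQ.no_frattini (C : CtxQ p q Z l) {D : Subgroup G} (hDn : D.Normal) (hDq : IsPGroup q D)
    (hD : D ≠ ⊥) : ∃ A : Subgroup G, D ⊔ Subgroup.normalizer (A : Set G) = ⊤ ∧
      ¬ D ≤ Subgroup.normalizer (A : Set G) := by
  obtain ⟨L, hLn, hDL, hqL, hL⟩ := C.up hDn hDq hD
  obtain ⟨A, hAL, hdis, hsup, hqA, hN⟩ := exists_compl hDn hLn hDL hDq hqL
  refine ⟨A, hN, fun h => hL ?_⟩
  have h1 := le_pPrimeCore_of hDn hLn hDq hdis hsup hqA h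
  rw [C.core] at h1
  rw [← hsup, sup_comm]
  exact sup_le_sup_right h1 D

theorem CtxQ.abelian (C : CtxQ p q Z l) {U : Subgroup G} (hU : U.Normal) (hUq : IsPGroup q U) :
    ∀ a ∈ U, ∀ b ∈ U, a * b = b * a := by
  classical
  have hDn : ((commutator U).map U.subtype).Normal := inferInstance
  have hDU : (commutator U).map U.subtype ≤ U := Subgroup.map_subtype_le _
  have hDb : (commutator U).map U.subtype = ⊥ := by
    by_contra hD
    obtain ⟨A, hA, hnot⟩ := C.no_frattini hDn (hUq.to_le hDU) hD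
    apply hnot
    refine hDU.trans ?_
    have h1 := dedekind hDn hDU hA
    have h2 : (Subgroup.normalizer (A : Set G)).subgroupOf U ⊔ commutator U = ⊤ := by
      apply Subgroup.map_injective U.subtype_injective
      rw [Subgroup.map_sup, Subgroup.subgroupOf_map_subtype, ← MonoidHom.range_eq_map,
        Subgroup.range_subtype, sup_comm, inf_comm]
      exact h1
    have h3 : (Subgroup.normalizer (A : Set G)).subgroupOf U ⊔ frattini U = ⊤ := by
      rw [eq_top_iff, ← h2]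
      exact sup_le_sup_left (Cfsg.Agent.Lib.FrattiniBasic.commutator_le_frattini hUq) _
    have h4 := frattini_nongenerating h3
    exact Subgroup.subgroupOf_eq_top.1 h4
  intro a ha b hb
  have h1 : commutator U = ⊥ := by
    apply Subgroup.map_injective U.subtype_injective
    rw [hDb, Subgroup.map_bot]
  have h2 : ⁅(⟨a, ha⟩ : U), (⟨b, hb⟩ : U)⁆ = 1 := by
    rw [← Subgroup.mem_bot, ← h1]
    exact Subgroup.commutator_mem_commutator (Subgroup.mem_top _) (Subgroup.mem_top _)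
  have h3 := congrArg Subtype.val (commutatorElement_eq_one_iff_mul_comm.1 h2)
  exact h3

theorem CtxQ.compl (C : CtxQ p q Z l) {W : Subgroup G} (hW : W.Normal) (hWq : IsPGroup q W) :
    ∃ H : Subgroup G, W ⊓ H = ⊥ ∧ W ⊔ H = ⊤ := by
  classical
  have hab := C.abelian hW hWq
  obtain ⟨H, hH, hmin⟩ := exists_min_supp W
  refine ⟨H, ?_, hH⟩
  by_contra hD
  have hDn : (W ⊓ H).Normal := by
    constructor
    intro n hn g
    have hg : g ∈ W ⊔ H := by rw [hH]; trivial
    obtain ⟨w, hw, h, hh, rfl⟩ := Subgroup.mem_sup_of_normal_left.1 hg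
    have h1 : h * n * h⁻¹ ∈ W ⊓ H := ⟨hW.conj_mem n hn.1 h, H.mul_mem (H.mul_mem hh hn.2)
      (H.inv_mem hh)⟩
    have h2 : w * h * n * (w * h)⁻¹ = w * (h * n * h⁻¹) * w⁻¹ := by group
    rw [h2, hab w hw _ h1.1, mul_inv_cancel_right]
    exact h1
  obtain ⟨A, hA, hnot⟩ := C.no_frattini hDn (hWq.to_le inf_le_left) hD
  apply hnot
  have h1 := dedekind hDn inf_le_right hA
  have h2 : W ⊔ (H ⊓ Subgroup.normalizer (A : Set G)) = ⊤ := by
    rw [← hH, ← h1, ← sup_assoc, sup_eq_left.2 (inf_le_left : W ⊓ H ≤ W)]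
    congr 1
    rw [h1]
  have h3 := hmin _ inf_le_left h2
  exact inf_le_right.trans (inf_eq_left.1 h3)

theorem CtxQ.le_core (C : CtxQ p q Z l) {M : Subgroup G} (hM : M.Normal) (hZM : Z ≤ M) {k : ℕ}
    (h : Z.relIndex M = q ^ k) : M ≤ pCore q G ⊔ Z := by
  haveI := C.zn
  -- a Sylow `q`-subgroup of `M` is normal in `G`
  obtain ⟨S, hS, hSM, h1⟩ := exists_pgroup_sup hZM ⟨k, h⟩
  have hSn : S.Normal := by
    constructor
    intro s hs g
    have h2 : g * s * g⁻¹ ∈ M := hM.conj_mem s (hSM hs) g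
    obtain ⟨z, hz, t, ht, h3'⟩ := h1 _ h2
    have h3 := h3'.symm
    -- `z` is trivial
    obtain ⟨i, hi⟩ := hS ⟨s, hs⟩
    obtain ⟨j, hj⟩ := hS ⟨t, ht⟩
    have hi' : s ^ q ^ i = 1 := congrArg Subtype.val hi
    have hj' : t ^ q ^ j = 1 := congrArg Subtype.val hj
    have h4 : (g * s * g⁻¹) ^ q ^ (i + j) = 1 := by
      rw [conj_pow, pow_add, pow_mul, hi', one_pow, mul_one, mul_inv_cancel]
    rw [← h3, (show Commute z t from (Subgroup.mem_center_iff.1 (C.cen hz) t).symm).mul_pow,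
      pow_add, mul_comm (q ^ i), pow_mul t, hj', one_pow, mul_one] at h4
    have h5 : z ^ Nat.card Z = 1 := by
      rw [← orderOf_dvd_iff_pow_eq_one]
      exact Subgroup.orderOf_dvd_natCard Z hz
    have h6 : z = 1 := by
      have h7 := pow_gcd_eq_one.2 ⟨h4, h5⟩
      have h8 : Nat.Coprime (q ^ j * q ^ i) (Nat.card Z) := by
        rw [← pow_add]
        exact Nat.Coprime.pow_left _ ((Nat.Prime.coprime_iff_not_dvd hq.out).2 C.qZ)
      rwa [h8.gcd_eq_one, pow_one] at h7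
    rw [← h3, h6, one_mul]
    exact ht
  intro x hx
  obtain ⟨z, hz, t, ht, rfl⟩ := h1 x hx
  exact mul_mem (Subgroup.mem_sup_right hz)
    (Subgroup.mem_sup_left (Cfsg.Agent.Lib.Cores.le_pCore hSn hS ht))

theorem CtxQ.cent (C : CtxQ p q Z l) {g : G} (hg : ∀ u ∈ pCore q G, g * u = u * g) :
    g ∈ pCore q G ⊔ Z := by
  classical
  haveI := C.zn
  have hUn : (pCore q G).Normal := Cfsg.Agent.Lib.Cores.pCore_normal q
  have hUq : IsPGroup q (pCore q G) := Cfsg.Agent.Lib.Cores.pCore_isPGroup q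
  set U := pCore q G with hU
  by_contra hcon
  let Cn := Subgroup.centralizer (U : Set G)
  have hCn : Cn.Normal := inferInstance
  have hgC : g ∈ Cn := Subgroup.mem_centralizer_iff.2 fun u hu => (hg u hu).symm
  have hUC : U ⊔ Z ≤ Cn := by
    refine sup_le ?_ ?_
    · intro u hu
      exact Subgroup.mem_centralizer_iff.2 fun v hv => C.abelian hUn hUq v hv u hu
    · intro z hz
      exact Subgroup.mem_centralizer_iff.2 fun v _ => Subgroup.mem_center_iff.1 (C.cen hz) v
  have hlt : U ⊔ Z < Cn := lt_of_le_of_ne hUC (fun h => hcon (h ▸ hgC))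
  obtain ⟨L, hLn, hLlt, hLC, hcase⟩ := Cfsg.Agent.PLocal.Constrained.exists_normal_step (p := q)
    (U ⊔ Z) Cn inferInstance hCn hlt
    (Cfsg.Agent.Lib.PSolvable.IsPSolvable_of_injective q C.qs Cn.subtype Cn.subtype_injective)
  have hUL : U ≤ L := le_sup_left.trans hLlt.le
  have hZL : Z ≤ L := le_sup_right.trans hLlt.le
  obtain ⟨k, hk⟩ := IsPGroup.iff_card.1 hUq
  rcases hcase with ⟨m, hm⟩ | hm
  · -- a `q`-group
    have h1 : Z.relIndex L = q ^ (k + m) := by
      rw [← Subgroup.relIndex_mul_relIndex Z (U ⊔ Z) L le_sup_right hLlt.le, hm, pow_add,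
        Subgroup.relIndex_sup_right, ← Subgroup.inf_relIndex_right, (C.disj hUq).eq_bot,
        Subgroup.relIndex_bot_left, hk]
    have h2 := C.le_core hLn hZL h1
    exact absurd hLlt (not_lt_of_ge h2)
  · -- a `q'`-group
    have h1 : ¬ q ∣ U.relIndex L := by
      rw [← Subgroup.relIndex_mul_relIndex U (U ⊔ Z) L le_sup_left hLlt.le]
      intro h
      rcases hq.out.dvd_mul.1 h with h2 | h2
      · apply C.qZ
        rw [sup_comm, Subgroup.relIndex_sup_right] at h2
        exact h2.trans (Subgroup.relIndex_dvd_card U Z)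
      · have h3 := Nat.dvd_gcd h2 (dvd_refl q)
        rw [hm] at h3
        exact hq.out.one_lt.ne' (Nat.dvd_one.1 h3)
    obtain ⟨A, hAL, hdis, hsup, hqA, hN⟩ := exists_compl hUn hLn hUL hUq h1
    have h2 : U ≤ Subgroup.normalizer (A : Set G) := by
      intro u hu
      have h3 : ∀ a ∈ A, u * a * u⁻¹ = a := by
        intro a ha
        have h4 := Subgroup.mem_centralizer_iff.1 (hLC (hAL ha)) u hu
        rw [h4, mul_inv_cancel_right]
      rw [Subgroup.mem_normalizer_iff]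
      intro a
      constructor
      · intro ha
        rw [h3 a ha]
        exact ha
      · intro ha
        have h5 : u * (u⁻¹ * (u * a * u⁻¹) * u) * u⁻¹ = u * a * u⁻¹ := by group
        have h6 : u⁻¹ * (u * a * u⁻¹) * u = u * a * u⁻¹ := by
          have h4 := Subgroup.mem_centralizer_iff.1 (hLC (hAL ha)) u hu
          rw [mul_assoc u⁻¹, ← h4]
          group
        have h7 : a = u * a * u⁻¹ := by
          conv_lhs => rw [show a = u⁻¹ * (u * a * u⁻¹) * u by group]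
          exact h6
        rw [h7]
        exact ha
    have h3 := le_pPrimeCore_of hUn hLn hUq hdis hsup hqA h2
    rw [C.core] at h3
    have h4 : L ≤ U ⊔ Z := by
      rw [← hsup]
      exact sup_le_sup_left h3 U
    exact absurd hLlt (not_lt_of_ge h4)

theorem CtxQ.eq_one_of_cent (C : CtxQ p q Z l) {x : G} (hx : orderOf x = p)
    (hg : ∀ u ∈ pCore q G, x * u = u * x) : False := by
  haveI := C.zn
  have h1 := C.cent hg
  obtain ⟨k, hk⟩ := IsPGroup.iff_card.1 (Cfsg.Agent.Lib.Cores.pCore_isPGroup (G := G) q)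
  have h2 : orderOf x ∣ Nat.card ↥(pCore q G ⊔ Z) := Subgroup.orderOf_dvd_natCard _ h1
  have h3 : Nat.card ↥(pCore q G ⊔ Z) ∣ q ^ k * Nat.card Z := by
    rw [← Subgroup.relIndex_bot_left (pCore q G ⊔ Z),
      ← Subgroup.relIndex_mul_relIndex ⊥ (pCore q G) (pCore q G ⊔ Z) bot_le le_sup_left,
      Subgroup.relIndex_bot_left, hk]
    refine mul_dvd_mul_left _ ?_
    rw [sup_comm]
    haveI : (pCore q G).Normal := Cfsg.Agent.Lib.Cores.pCore_normal q
    rw [Subgroup.relIndex_sup_right]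
    exact Subgroup.relIndex_dvd_card _ _
  rw [hx] at h2
  rcases hp.out.dvd_mul.1 (h2.trans h3) with h | h
  · exact C.ne ((Nat.prime_dvd_prime_iff_eq hp.out hq.out).1 (hp.out.dvd_of_dvd_pow h))
  · exact C.pZ h

theorem CtxQ.exists_p (C : CtxQ p q Z l) : ∃ x : G, orderOf x = p :=
  exists_prime_orderOf_dvd_card' p (C.dvd.trans Z.index_dvd_card)

theorem CtxQ.U_ne (C : CtxQ p q Z l) : pCore q G ≠ ⊥ := by
  intro h
  obtain ⟨x, hx⟩ := C.exists_p
  refine C.eq_one_of_cent hx ?_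
  intro u hu
  rw [h, Subgroup.mem_bot] at hu
  rw [hu, mul_one, one_mul]

theorem CtxQ.minimal (C : CtxQ p q Z l) {W : Subgroup G} (hW : W.Normal) (hWU : W ≤ pCore q G) :
    W = ⊥ ∨ W = pCore q G := by
  classical
  have hUn : (pCore q G).Normal := Cfsg.Agent.Lib.Cores.pCore_normal q
  have hUq : IsPGroup q (pCore q G) := Cfsg.Agent.Lib.Cores.pCore_isPGroup q
  by_contra hcon
  push Not at hcon
  have hWq := hUq.to_le hWU
  obtain ⟨H, hH1, hH2⟩ := C.compl hW hWq
  have hab := C.abelian hUn hUq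
  let E := pCore q G ⊓ H
  have hEn : E.Normal := by
    constructor
    intro n hn g
    have hg : g ∈ W ⊔ H := by rw [hH2]; trivial
    obtain ⟨w, hw, h, hh, rfl⟩ := Subgroup.mem_sup_of_normal_left.1 hg
    have h1 : h * n * h⁻¹ ∈ pCore q G ⊓ H := ⟨hUn.conj_mem n hn.1 h,
      H.mul_mem (H.mul_mem hh hn.2) (H.inv_mem hh)⟩
    have h2 : w * h * n * (w * h)⁻¹ = w * (h * n * h⁻¹) * w⁻¹ := by group
    rw [h2, hab w (hWU hw) _ h1.1, mul_inv_cancel_right]
    exact h1
  have hE : W ⊔ E = pCore q G := dedekind hW hWU hH2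
  have hEb : E ≠ ⊥ := by
    intro h
    rw [h, sup_bot_eq] at hE
    exact hcon.2 hE
  have hWE : W ⊓ E = ⊥ := by
    rw [eq_bot_iff, ← hH1]
    exact inf_le_inf_left W inf_le_right
  obtain ⟨x, hx⟩ := C.exists_p
  refine C.eq_one_of_cent hx ?_
  intro u hu
  have hxp : x ^ p ^ 1 = 1 := by rw [pow_one, ← hx, pow_orderOf_eq_one]
  have h1 := C.cz hW hWq hcon.1 hUn hUq hxp hu
  have h2 := C.cz hEn (hUq.to_le inf_le_left) hEb hUn hUq hxp hu
  have h3 : ⁅x, u⁆ ∈ W ⊓ E := ⟨h1, h2⟩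
  rw [hWE, Subgroup.mem_bot] at h3
  exact commutatorElement_eq_one_iff_mul_comm.1 h3

theorem CtxQ.exp (C : CtxQ p q Z l) : ∀ u ∈ pCore q G, u ^ q = 1 := by
  classical
  have hUn : (pCore q G).Normal := Cfsg.Agent.Lib.Cores.pCore_normal q
  have hUq : IsPGroup q (pCore q G) := Cfsg.Agent.Lib.Cores.pCore_isPGroup q
  have hab := C.abelian hUn hUq
  let W : Subgroup G :=
    { carrier := {u | u ∈ pCore q G ∧ u ^ q = 1}
      one_mem' := ⟨one_mem _, one_pow _⟩
      mul_mem' := by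
        rintro a b ⟨ha, h1⟩ ⟨hb, h2⟩
        refine ⟨mul_mem ha hb, ?_⟩
        rw [(show Commute a b from hab a ha b hb).mul_pow, h1, h2, one_mul]
      inv_mem' := by
        rintro a ⟨ha, h1⟩
        exact ⟨inv_mem ha, by rw [inv_pow, h1, inv_one]⟩ }
  have hW : W.Normal := by
    constructor
    rintro n ⟨hn, h1⟩ g
    exact ⟨hUn.conj_mem n hn g, by rw [conj_pow, h1, mul_one, mul_inv_cancel]⟩
  rcases C.minimal hW (fun u hu => hu.1) with h | h
  · exfalso
    obtain ⟨k, hk⟩ := IsPGroup.iff_card.1 hUq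
    have hk0 : k ≠ 0 := by
      rintro rfl
      rw [pow_zero] at hk
      exact C.U_ne (Subgroup.card_eq_one.1 hk)
    obtain ⟨x, hx⟩ := exists_prime_orderOf_dvd_card' (G := pCore q G) q
      (by rw [hk]; exact dvd_pow_self q hk0)
    have h1 : (x : G) ∈ W := by
      refine ⟨x.2, ?_⟩
      have : x ^ q = 1 := orderOf_dvd_iff_pow_eq_one.1 (dvd_of_eq hx)
      exact congrArg Subtype.val this
    rw [h, Subgroup.mem_bot] at h1
    have h2 : x = 1 := Subtype.ext h1
    rw [h2, orderOf_one] at hx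
    exact hq.out.one_lt.ne hx
  · intro u hu
    rw [← h] at hu
    exact hu.2

/-- the final structure -/
structure FinQ (p q : ℕ) {G : Type u} [Group G] [Finite G] (Z U X K : Subgroup G)
    (l : Z →* ℂˣ) : Prop where
  ctx : CtxQ p q Z l
  U_eq : U = pCore q G
  disj : U ⊓ X = ⊥
  sup : U ⊔ X = ⊤
  ZX : Z ≤ X
  nK : K.Normal
  ZK : Z ≤ K
  UK : U ≤ K
  dvd : p ∣ K.index
  qidx : ¬ q ∣ K.index
  pK : ¬ p ∣ Nat.card K
  max : ∀ M : Subgroup G, M.Normal → K ≤ M → M = K ∨ M = ⊤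
  nab : ¬ ∀ a b : G, ⁅a, b⁆ ∈ K

theorem CtxQ.exists_fin (C : CtxQ p q Z l) : ∃ U X K : Subgroup G, FinQ p q Z U X K l := by
  classical
  have hUn : (pCore q G).Normal := Cfsg.Agent.Lib.Cores.pCore_normal q
  have hUq : IsPGroup q (pCore q G) := Cfsg.Agent.Lib.Cores.pCore_isPGroup q
  obtain ⟨X, hX1, hX2⟩ := C.compl hUn hUq
  obtain ⟨K, hK, hZK, hpi, hqi, hpK, hmax, hnab⟩ := C.exists_K
  refine ⟨pCore q G, X, K, C, rfl, hX1, hX2, ?_, hK, hZK, ?_, hpi, hqi, hpK, hmax, hnab⟩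
  · intro z hz
    have h1 : z ∈ pCore q G ⊔ X := by rw [hX2]; trivial
    obtain ⟨u, hu, x, hx, rfl⟩ := Subgroup.mem_sup_of_normal_left.1 h1
    have h2 : u * x = x * u := by
      have h3 := Subgroup.mem_center_iff.1 (C.cen hz) u
      have h4 : u * (u * x) = u * (x * u) := by rw [h3, mul_assoc]
      exact mul_left_cancel h4
    have h3 : (u * x) ^ Nat.card Z = 1 := by
      rw [← orderOf_dvd_iff_pow_eq_one]
      exact Subgroup.orderOf_dvd_natCard Z hz
    rw [(show Commute u x from h2).mul_pow] at h3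
    have h4 : u ^ Nat.card Z ∈ pCore q G ⊓ X := by
      refine ⟨pow_mem hu _, ?_⟩
      rw [mul_eq_one_iff_eq_inv] at h3
      rw [h3]
      exact X.inv_mem (pow_mem hx _)
    rw [hX1, Subgroup.mem_bot] at h4
    have h5 := pow_gcd_eq_one.2 ⟨h4, C.exp u hu⟩
    rw [((Nat.Prime.coprime_iff_not_dvd hq.out).2 C.qZ).symm.gcd_eq_one, pow_one] at h5
    rw [h5, one_mul]
    exact hx
  · exact mem_of_not_dvd_index hK hqi hUq

end Cfsg.Agent.H20.NWQ
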